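import Groth.Agent.Lib.TopDimLib.Basic
import Mathlib.AlgebraicGeometry.Noetherian
import Mathlib.RingTheory.Ideal.KrullsHeightTheorem
import Mathlib.RingTheory.Spectrum.Prime.Noetherian
import Mathlib.Topology.Sober
import Mathlib.AlgebraicGeometry.Properties

/-!
Specialization order on Noetherian schemes.
-/

universe u

open CategoryTheory AlgebraicGeometry TopologicalSpace

namespace Groth.Agent.QF

theorem exists_maximal {S : Scheme.{u}} [IsLocallyNoetherian S] (T : Set S) (t : S) (ht : t ∈ T) :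
    ∃ t₀ ∈ T, (∀ t' ∈ T, t' ⤳ t₀ → t' = t₀) ∧ t₀ ⤳ t := by
  haveI : IsNoetherianRing (S.presheaf.stalk t) := inferInstance
  let P : Set (PrimeSpectrum (S.presheaf.stalk t)) := {p | S.fromSpecStalk t p ∈ T}
  have hP : P.Nonempty :=
    ⟨IsLocalRing.closedPoint _, show S.fromSpecStalk t _ ∈ T by rwa [Scheme.fromSpecStalk_closedPoint]⟩
  obtain ⟨p, hp, hmin⟩ := (InvImage.wf (fun p : PrimeSpectrum (S.presheaf.stalk t) =>
    p.asIdeal.height) wellFounded_lt).has_min P hP
  have hpt : S.fromSpecStalk t p ⤳ t := (Scheme.range_fromSpecStalk (x := t)).le ⟨p, rfl⟩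
  refine ⟨_, hp, fun t' ht' h => ?_, hpt⟩
  obtain ⟨q, rfl⟩ := (Scheme.range_fromSpecStalk (x := t)).ge (h.trans hpt)
  have hqp : q.asIdeal ≤ p.asIdeal :=
    (PrimeSpectrum.le_iff_specializes q p).mpr ((S.fromSpecStalk t).isEmbedding.isInducing.specializes_iff.mp h)
  rcases eq_or_lt_of_le hqp with e | hlt
  · rw [show q = p from PrimeSpectrum.ext e]
  · haveI : q.asIdeal.IsPrime := q.isPrime
    haveI : p.asIdeal.IsPrime := p.isPrime
    exact absurd (Ideal.height_strict_mono_of_isPrime hlt) (hmin q ht')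

theorem exists_infinite_antichain {S : Scheme.{u}} [IsNoetherian S] (T : Set S) (hT : T.Infinite) :
    ∃ T' : Set S, T' ⊆ T ∧ T'.Infinite ∧ ∀ a ∈ T', ∀ b ∈ T', a ⤳ b → a = b := by
  haveI : NoetherianSpace S := inferInstance
  obtain ⟨Z, hZ, hmin⟩ := (wellFounded_lt (α := Closeds S)).has_min {Z | ((Z : Set S) ∩ T).Infinite}
    ⟨⊤, show ((⊤ : Closeds S) : Set S) ∩ T |>.Infinite by simpa using hT⟩
  let T₁ := {t ∈ T | t ∈ Z ∧ closure {t} ≠ (Z : Set S)}
  have hfin : ∀ t ∈ T₁, (closure {t} ∩ T).Finite := by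
    intro t ht
    by_contra hinf
    refine hmin ⟨closure {t}, isClosed_closure⟩ hinf (lt_of_le_of_ne ?_ fun e => ht.2.2 ?_)
    · exact closure_minimal (Set.singleton_subset_iff.mpr ht.2.1) Z.isClosed
    · exact congrArg (fun W : Closeds S => (W : Set S)) e
  have hinf : T₁.Infinite := by
    intro h
    refine hZ ((h.union (Set.Subsingleton.finite (s := {t ∈ T | closure {t} = (Z : Set S)}) ?_)).subset ?_)
    · intro a ha b hb
      exact (IsGenericPoint.eq (show IsGenericPoint a (Z : Set S) from ha.2)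
        (show IsGenericPoint b (Z : Set S) from hb.2))
    · intro t ⟨htZ, htT⟩
      by_cases h1 : closure {t} = (Z : Set S)
      · exact Or.inr ⟨htT, h1⟩
      · exact Or.inl ⟨htT, htZ, h1⟩
  refine ⟨{t ∈ T₁ | ∀ t' ∈ T₁, t' ⤳ t → t' = t}, fun t ht => ht.1.1, fun hM => hinf ?_,
    fun a ha b hb h => hb.2 a ha.1 h⟩
  refine (hM.biUnion fun m hm => hfin m hm.1).subset fun t ht => ?_
  obtain ⟨m, hm, hmax, hmt⟩ := exists_maximal T₁ t ht
  exact Set.mem_biUnion (show m ∈ {t ∈ T₁ | ∀ t' ∈ T₁, t' ⤳ t → t' = t} from ⟨hm, hmax⟩)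
    ⟨specializes_iff_mem_closure.mp hmt, ht.1⟩

theorem localDim_eq_zero_iff {X : Scheme.{u}} [IsLocallyNoetherian X] (x : X) :
    FlatMor.localDim X x = 0 ↔ IsOpen ({x} : Set X) := by
  constructor
  · intro h
    obtain ⟨U, hU⟩ := TopDimLib.exists_localDim_eq x
    obtain ⟨V, hV, hxV, hVU⟩ := exists_isAffineOpen_mem_and_subset U.2
    haveI : IsNoetherianRing Γ(X, V) := IsLocallyNoetherian.component_noetherian ⟨V, hV⟩
    haveI : NoetherianSpace (V : Set X) := by
      haveI : NoetherianSpace (Spec Γ(X, V)) :=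
        inferInstanceAs (NoetherianSpace (PrimeSpectrum Γ(X, V)))
      exact noetherianSpace_of_surjective hV.isoSpec.inv hV.isoSpec.inv.continuous
        hV.isoSpec.inv.surjective
    haveI : Nonempty (V : Set X) := ⟨⟨x, hxV⟩⟩
    have hle : topologicalKrullDim (V : Set X) ≤ 0 := by
      rw [← h, ← hU]
      exact (Topology.IsEmbedding.inclusion hVU).isInducing.topologicalKrullDim_le
    obtain ⟨-, hd⟩ := (TopDimLib.dim_eq_zero_iff (X := (V : Set X))).mp
      (le_antisymm hle TopDimLib.zero_le_dim)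
    have := V.isOpen.isOpenMap_subtype_val _ (isOpen_discrete ({⟨x, hxV⟩} : Set (V : Set X)))
    simpa using this
  · intro h
    haveI : Subsingleton ((⟨{x}, h⟩ : Opens X) : Set X) :=
      ⟨fun a b => Subtype.ext ((a.2 : a.1 = x).trans (b.2 : b.1 = x).symm)⟩
    refine le_antisymm ((TopDimLib.localDim_le_opens ⟨{x}, h⟩ rfl).trans
      (topologicalKrullDim_zero_of_discreteTopology _)) (le_iInf fun U => ?_)
    haveI : Nonempty (U.1 : Set X) := ⟨⟨x, U.2⟩⟩
    exact TopDimLib.zero_le_dim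

end Groth.Agent.QF
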