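import Groth.Agent.Lib.TensorMod.PullStalk
import Groth.Agent.Lib.DMod.ResClass
import Groth.Agent.Lib.ModM1.Stalk
import Groth.Prelude.Def_FlatMod2
import Mathlib.AlgebraicGeometry.Morphisms.Flat
import Mathlib.RingTheory.Flat.FaithfullyFlat.Algebra

/-!
Flatness of modules over the base: short exact sequences, faithfully flat pullback.
-/

universe u

open CategoryTheory AlgebraicGeometry TensorProduct

namespace Groth.Agent.QF

theorem flat_baseChange_iff {A C B M : Type u} [CommRing A] [CommRing C] [CommRing B] [Algebra A C]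
    [Algebra C B] [Algebra A B] [IsScalarTower A C B] [Module.FaithfullyFlat C B]
    [AddCommGroup M] [Module C M] [Module A M] [IsScalarTower A C M] :
    Module.Flat A (B ⊗[C] M) ↔ Module.Flat A M := by
  simp only [Module.Flat.iff_lTensor_preserves_injective_linearMap]
  refine forall_congr' fun N => forall_congr' fun N' => forall_congr' fun _ => forall_congr' fun _ =>
    forall_congr' fun _ => forall_congr' fun _ => forall_congr' fun l => imp_congr_right fun _ => ?_
  let lC : M ⊗[A] N →ₗ[C] M ⊗[A] N' := AlgebraTensorModule.lTensor C M l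
  have h : (AlgebraTensorModule.assoc A C B B M N').toLinearMap.restrictScalars A ∘ₗ l.lTensor (B ⊗[C] M) =
      (lC.lTensor B).restrictScalars A ∘ₗ
        (AlgebraTensorModule.assoc A C B B M N).toLinearMap.restrictScalars A :=
    TensorProduct.ext' fun x n => by
      induction x using TensorProduct.induction_on with
      | zero => simp
      | add x y hx hy => rw [add_tmul, map_add, map_add, hx, hy]
      | tmul b m => simp [lC]
  have e : Function.Injective (l.lTensor (B ⊗[C] M)) ↔ Function.Injective (lC.lTensor B) := by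
    rw [← Function.Injective.of_comp_iff (AlgebraTensorModule.assoc A C B B M N').injective,
      ← Function.Injective.of_comp_iff' (lC.lTensor B)
        (AlgebraTensorModule.assoc A C B B M N).bijective]
    exact iff_of_eq (congrArg Function.Injective (congrArg DFunLike.coe h))
  rw [e, Module.FaithfullyFlat.lTensor_injective_iff_injective]
  exact Iff.rfl

variable {X Y Z : Scheme.{u}}

theorem isFlatOverAt_pullback_iff (f : X ⟶ Y) (g : Y ⟶ Z) [Flat f] (G : Y.Modules) (x : X) :
    FlatMod.IsFlatOverAt (f ≫ g) ((Scheme.Modules.pullback f).obj G) x ↔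
      FlatMod.IsFlatOverAt g G (f x) := by
  letI : Algebra (Z.presheaf.stalk (g (f x))) (Y.presheaf.stalk (f x)) := (g.stalkMap (f x)).hom.toAlgebra
  letI : Algebra (Z.presheaf.stalk (g (f x))) (X.presheaf.stalk x) :=
    ((f ≫ g).stalkMap x).hom.toAlgebra
  letI : Algebra (Y.presheaf.stalk (f x)) (X.presheaf.stalk x) := (f.stalkMap x).hom.toAlgebra
  haveI : IsScalarTower (Z.presheaf.stalk (g (f x))) (Y.presheaf.stalk (f x)) (X.presheaf.stalk x) :=
    IsScalarTower.of_algebraMap_eq fun a => congr($(Scheme.Hom.stalkMap_comp f g x) a)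
  haveI : Module.Flat (Y.presheaf.stalk (f x)) (X.presheaf.stalk x) := Flat.stalkMap f x
  haveI : IsLocalHom (algebraMap (Y.presheaf.stalk (f x)) (X.presheaf.stalk x)) :=
    inferInstanceAs (IsLocalHom (f.stalkMap x).hom)
  haveI := Module.FaithfullyFlat.of_flat_of_isLocalHom (A := Y.presheaf.stalk (f x))
    (B := X.presheaf.stalk x)
  letI : Module (Z.presheaf.stalk (g (f x))) (G.presheaf.stalk (f x)) :=
    FlatMod.moduleStalkOver g G (f x)
  haveI : IsScalarTower (Z.presheaf.stalk (g (f x))) (Y.presheaf.stalk (f x)) (G.presheaf.stalk (f x)) :=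
    IsScalarTower.of_algebraMap_smul fun _ _ => rfl
  let P := ((Scheme.Modules.pullback f).obj G)
  letI : Module (Z.presheaf.stalk (g (f x))) (P.presheaf.stalk x) :=
    FlatMod.moduleStalkOver (f ≫ g) P x
  haveI : IsScalarTower (Z.presheaf.stalk (g (f x))) (X.presheaf.stalk x) (P.presheaf.stalk x) :=
    IsScalarTower.of_algebraMap_smul fun _ _ => rfl
  let e : (X.presheaf.stalk x ⊗[Y.presheaf.stalk (f x)] G.presheaf.stalk (f x)) ≃ₗ[X.presheaf.stalk x]
      P.presheaf.stalk x := M2.pullStalkEquiv f x G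
  show Module.Flat (Z.presheaf.stalk (g (f x))) (P.presheaf.stalk x) ↔ _
  rw [← Module.Flat.equiv_iff (e.restrictScalars (Z.presheaf.stalk (g (f x)))), flat_baseChange_iff]
  exact Iff.rfl

theorem stalkAb_map_smul {M N : X.Modules} (φ : M ⟶ N) (x : X) (r : X.presheaf.stalk x)
    (m : M.presheaf.stalk x) : (M1.stalkAb x).map φ (r • m) = r • (show N.presheaf.stalk x from (M1.stalkAb x).map φ m) := by
  obtain ⟨U, hU, a, rfl⟩ := X.presheaf.germ_exist r
  obtain ⟨V, hV, s, rfl⟩ := M.presheaf.germ_exist m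
  rw [← TopCat.Presheaf.germ_res_apply X.presheaf (homOfLE (inf_le_left : U ⊓ V ≤ U)) x ⟨hU, hV⟩ a,
    ← M1.germ_mres M (inf_le_right : U ⊓ V ≤ V) (x := x) (show x ∈ U ⊓ V from ⟨hU, hV⟩) s]
  have hW : x ∈ U ⊓ V := ⟨hU, hV⟩
  have key : ∀ (c : Γ(X, U ⊓ V)) (t : Γ(M, U ⊓ V)),
      (M1.stalkAb x).map φ (X.presheaf.germ (U ⊓ V) x hW c • M.presheaf.germ (U ⊓ V) x hW t) =
        X.presheaf.germ (U ⊓ V) x hW c •
          (show N.presheaf.stalk x from (M1.stalkAb x).map φ (M.presheaf.germ (U ⊓ V) x hW t)) := by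
    intro c t
    rw [← M1.germ_smul M hW c t, M1.germ_naturality, Scheme.Modules.Hom.app_smul, M1.germ_smul N hW,
      ← M1.germ_naturality φ _ x hW t]
  exact key _ _

theorem isFlatOverAt_iff_of_shortExact (f : X ⟶ Y) (S : ShortComplex X.Modules) (hS : S.ShortExact)
    (x : X) (h₃ : FlatMod.IsFlatOverAt f S.X₃ x) :
    FlatMod.IsFlatOverAt f S.X₂ x ↔ FlatMod.IsFlatOverAt f S.X₁ x := by
  letI := FlatMod.moduleStalkOver f S.X₁ x
  letI := FlatMod.moduleStalkOver f S.X₂ x
  letI := FlatMod.moduleStalkOver f S.X₃ x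
  haveI : Mono S.f := hS.mono_f
  haveI : Epi S.g := hS.epi_g
  let i : S.X₁.presheaf.stalk x →ₗ[Y.presheaf.stalk (f x)] S.X₂.presheaf.stalk x :=
    { toFun := (M1.stalkAb x).map S.f
      map_add' := map_add _
      map_smul' := fun r m => stalkAb_map_smul S.f x (f.stalkMap x r) m }
  let q : S.X₂.presheaf.stalk x →ₗ[Y.presheaf.stalk (f x)] S.X₃.presheaf.stalk x :=
    { toFun := (M1.stalkAb x).map S.g
      map_add' := map_add _
      map_smul' := fun r m => stalkAb_map_smul S.g x (f.stalkMap x r) m }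
  have hi : Function.Injective i := (M1.mono_iff_stalk S.f).mp inferInstance x
  have hq : Function.Surjective q := (M1.epi_iff_stalk S.g).mp inferInstance x
  have hex : Function.Exact i q := by
    intro b
    refine ⟨fun hb => (M1.exact_iff_stalk_eq_zero S).mp hS.exact x b hb, ?_⟩
    rintro ⟨a, rfl⟩
    show ((M1.stalkAb x).map S.f ≫ (M1.stalkAb x).map S.g) a = 0
    rw [← Functor.map_comp, S.zero, Functor.map_zero]
    rfl
  exact ⟨fun h₂ => DMod.flat_left_of_exact hi hex hq h₂ h₃,
    fun h₁ => DMod.flat_mid_of_exact hi hex hq h₁ h₃⟩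

end Groth.Agent.QF
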