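import Groth.Prelude.Def_FDesc
import Groth.Agent.Lib.ModM1.Stalk
import Mathlib.RingTheory.Flat.FaithfullyFlat.Basic
import Mathlib.RingTheory.Nakayama
import Mathlib.AlgebraicGeometry.Morphisms.QuasiCompact
import Mathlib.AlgebraicGeometry.Morphisms.UnderlyingMap
import Mathlib.RingTheory.Ideal.MinimalPrime.Localization

/-!
Quasi-flat morphisms: generizations lift.
-/

universe u

open CategoryTheory AlgebraicGeometry TensorProduct

namespace Groth.Agent.QF

/-- A nonzero finite module over a local algebra, flat over the base, forces the spectrum to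
surject. -/
theorem exists_prime_over {A B M : Type u} [CommRing A] [CommRing B] [IsLocalRing A] [IsLocalRing B]
    [Algebra A B] [IsLocalHom (algebraMap A B)] [AddCommGroup M] [Module A M] [Module B M]
    [IsScalarTower A B M] [Module.Finite B M] [Module.Flat A M] [Nontrivial M]
    (p : Ideal A) [p.IsPrime] : ∃ q : Ideal B, q.IsPrime ∧ q.comap (algebraMap A B) = p := by
  haveI : Module.FaithfullyFlat A M := by
    refine ⟨fun m hm htop => ?_⟩
    rw [IsLocalRing.eq_maximalIdeal hm] at htop
    refine not_subsingleton M (subsingleton_of_forall_eq 0 fun x => ?_)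
    have hle : (⊤ : Submodule B M) ≤ IsLocalRing.maximalIdeal B • ⊤ := by
      intro y _
      have hy : y ∈ IsLocalRing.maximalIdeal A • (⊤ : Submodule A M) := htop.ge trivial
      refine Submodule.smul_induction_on hy (fun a ha z _ => ?_) fun _ _ => add_mem
      rw [← algebraMap_smul B a z]
      exact Submodule.smul_mem_smul (map_nonunit (algebraMap A B) a ha) trivial
    exact (Submodule.eq_bot_iff _).mp (Submodule.eq_bot_of_le_smul_of_le_jacobson_bot
      (IsLocalRing.maximalIdeal B) ⊤ Module.Finite.fg_top hle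
      (IsLocalRing.maximalIdeal_le_jacobson _)) x trivial
  have hdisj : Disjoint (p.map (algebraMap A B) : Set B) (p.primeCompl.map (algebraMap A B)) := by
    rw [Set.disjoint_left]
    rintro _ hb ⟨s, hs, rfl⟩
    haveI := Module.FaithfullyFlat.lTensor_nontrivial A M p.ResidueField
    refine not_subsingleton (M ⊗[A] p.ResidueField) (subsingleton_of_forall_eq 0 fun z => ?_)
    induction z using TensorProduct.induction_on with
    | zero => rfl
    | add x y hx hy => rw [hx, hy, add_zero]
    | tmul m c =>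
      have hmem : ∀ b ∈ p.map (algebraMap A B), ∀ m : M, b • m ∈ p • (⊤ : Submodule A M) := by
        intro b hb
        induction hb using Submodule.span_induction with
        | mem x hx =>
          obtain ⟨a, ha, rfl⟩ := hx
          intro m
          rw [algebraMap_smul]
          exact Submodule.smul_mem_smul ha trivial
        | zero => intro m; rw [zero_smul]; exact zero_mem _
        | add x y _ _ hx hy => intro m; rw [add_smul]; exact add_mem (hx m) (hy m)
        | smul r x _ hx => intro m; rw [smul_eq_mul, mul_comm, mul_smul]; exact hx _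
      have h0 : ∀ z ∈ p • (⊤ : Submodule A M), ∀ d : p.ResidueField, z ⊗ₜ[A] d = 0 := by
        intro z hz d
        refine Submodule.smul_induction_on hz (fun a ha y _ => ?_)
          (fun x y hx hy => by rw [add_tmul, hx, hy, add_zero])
        rw [smul_tmul, Algebra.smul_def, Ideal.algebraMap_residueField_eq_zero.mpr ha, zero_mul,
          tmul_zero]
      have hs0 : algebraMap A p.ResidueField s ≠ 0 := fun h =>
        hs (Ideal.algebraMap_residueField_eq_zero.mp h)
      have := h0 _ (hmem _ hb m) (c / algebraMap A p.ResidueField s)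
      rwa [algebraMap_smul, smul_tmul, Algebra.smul_def, mul_div_cancel₀ _ hs0] at this
  obtain ⟨q, hq, hle, hqd⟩ := Ideal.exists_le_prime_disjoint _ _ hdisj
  refine ⟨q, hq, le_antisymm (fun a ha => ?_) (Ideal.map_le_iff_le_comap.mp hle)⟩
  by_contra hap
  exact Set.disjoint_left.mp hqd ha ⟨a, hap, rfl⟩

variable {X Y Y' : Scheme.{u}}

/-- Generizations lift along quasi-flat morphisms. -/
theorem generalizingMap (f : X ⟶ Y) (hf : FDesc.IsQuasiFlat f) : GeneralizingMap f.base := by
  obtain ⟨M, hM, hflat, hne⟩ := hf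
  intro x y hy
  letI : Algebra (Y.presheaf.stalk (f x)) (X.presheaf.stalk x) := (f.stalkMap x).hom.toAlgebra
  letI : Module (Y.presheaf.stalk (f x)) (M.presheaf.stalk x) := FlatMod.moduleStalkOver f M x
  haveI : IsScalarTower (Y.presheaf.stalk (f x)) (X.presheaf.stalk x) (M.presheaf.stalk x) :=
    IsScalarTower.of_algebraMap_smul fun _ _ => rfl
  haveI : Module.Flat (Y.presheaf.stalk (f x)) (M.presheaf.stalk x) := hflat x
  haveI : Module.Finite (X.presheaf.stalk x) (M.presheaf.stalk x) := M1.finite_stalk hM.1 hM.2 x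
  haveI : IsLocalHom (algebraMap (Y.presheaf.stalk (f x)) (X.presheaf.stalk x)) :=
    inferInstanceAs (IsLocalHom (f.stalkMap x).hom)
  haveI := hne x
  have hy' : y ∈ Set.range (Y.fromSpecStalk (f x)) := by
    rw [Scheme.range_fromSpecStalk]; exact hy
  obtain ⟨p, rfl⟩ := hy'
  haveI : p.asIdeal.IsPrime := p.isPrime
  obtain ⟨q, hq, e⟩ := exists_prime_over (B := X.presheaf.stalk x) (M := M.presheaf.stalk x) p.asIdeal
  refine ⟨X.fromSpecStalk x ⟨q, hq⟩, (Scheme.range_fromSpecStalk (x := x)).le ⟨_, rfl⟩, ?_⟩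
  show f (X.fromSpecStalk x ⟨q, hq⟩) = _
  rw [← Scheme.Hom.comp_apply, ← Scheme.SpecMap_stalkMap_fromSpecStalk, Scheme.Hom.comp_apply]
  exact congrArg _ (PrimeSpectrum.ext e)

/-- Points in the closure of the image of a quasi-compact morphism are specializations of image
points. -/
theorem exists_specializes_of_mem_closure (g : Y' ⟶ Y) [QuasiCompact g] {z : Y}
    (hz : z ∈ closure (Set.range g.base)) : ∃ y : Y', g y ⤳ z := by
  obtain ⟨W, hW, hzW, -⟩ := exists_isAffineOpen_mem_and_subset (x := z) (U := ⊤) trivial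
  obtain ⟨R, g', hg'⟩ := isCompact_iff_exists.mp (g.isCompact_preimage (U := W) hW.isCompact)
  let h : Spec R ⟶ Spec Γ(Y, W) := IsOpenImmersion.lift hW.fromSpec (g' ≫ g) (by
    rw [hW.range_fromSpec]
    rintro _ ⟨r, rfl⟩
    exact hg'.le ⟨r, rfl⟩)
  have hh : ∀ r, hW.fromSpec (h r) = g (g' r) := fun r => by
    rw [← Scheme.Hom.comp_apply, IsOpenImmersion.lift_fac, Scheme.Hom.comp_apply]
  obtain ⟨φ, hφ⟩ := Spec.map_surjective h
  obtain ⟨w, rfl⟩ : z ∈ Set.range hW.fromSpec := hW.range_fromSpec.ge hzW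
  have hw : w ∈ closure (Set.range (PrimeSpectrum.comap φ.hom)) := by
    refine mem_closure_iff.mpr fun o ho hwo => ?_
    obtain ⟨_, ⟨w', hw', rfl⟩, y, hy⟩ :=
      mem_closure_iff.mp hz _ (hW.fromSpec.isOpenEmbedding.isOpenMap o ho) ⟨w, hwo, rfl⟩
    have hyW : hW.fromSpec w' ∈ W := hW.range_fromSpec.le ⟨w', rfl⟩
    obtain ⟨r, rfl⟩ : y ∈ Set.range g' := hg'.ge (show g y ∈ W from hy ▸ hyW)
    refine ⟨h r, hW.fromSpec.isOpenEmbedding.injective ((hh r).trans hy) ▸ hw', ⟨r, ?_⟩⟩
    rw [← hφ]; rfl
  have hw' : RingHom.ker φ.hom ≤ w.asIdeal := (PrimeSpectrum.closure_range_comap (f := φ.hom)).le hw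
  rw [RingHom.ker_eq_comap_bot] at hw'
  haveI : w.asIdeal.IsPrime := w.isPrime
  obtain ⟨p, hp, hpw⟩ := Ideal.exists_minimalPrimes_le hw'
  obtain ⟨q, hq, -, hqp⟩ := Ideal.exists_comap_eq_of_mem_minimalPrimes φ.hom p hp
  refine ⟨g' ⟨q, hq⟩, ?_⟩
  rw [← hh, ← hφ]
  refine Specializes.map ?_ hW.fromSpec.continuous
  exact (PrimeSpectrum.le_iff_specializes _ _).mp (hqp.le.trans hpw)

theorem preimage_closure_eq (f : X ⟶ Y) (hf : FDesc.IsQuasiFlat f) (g : Y' ⟶ Y) [QuasiCompact g] :
    f.base ⁻¹' closure (Set.range g.base) = closure (f.base ⁻¹' Set.range g.base) := by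
  refine (Set.Subset.antisymm ?_ (f.continuous.closure_preimage_subset _))
  intro x hx
  obtain ⟨y, hy⟩ := exists_specializes_of_mem_closure g hx
  obtain ⟨x', hx', e⟩ := generalizingMap f hf hy
  exact hx'.mem_closed isClosed_closure (subset_closure ⟨y, e.symm⟩)

end Groth.Agent.QF
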