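import Groth.Agent.Lib.EffCartier.Comap
import Mathlib.AlgebraicGeometry.Morphisms.Flat
import Mathlib.RingTheory.Flat.FaithfullyFlat.Algebra
import Mathlib.RingTheory.Localization.Ideal

/-!
Inverse image of ideal sheaves along faithfully flat morphisms is injective.
-/

universe u

open CategoryTheory AlgebraicGeometry Scheme

namespace Groth.Agent.QF

theorem exists_mul_mem {R B : Type u} [CommRing R] [CommRing B] {φ : R →+* B} (hφ : φ.Flat)
    (m : Ideal R) [m.IsPrime] (n : Ideal B) [n.IsPrime] (hn : n.comap φ = m) (I : Ideal R) (a : R)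
    (ha : φ a ∈ I.map φ) : ∃ s ∉ m, s * a ∈ I := by
  let ψ := Localization.localRingHom m n φ hn.symm
  letI := ψ.toAlgebra
  haveI : Module.Flat (Localization.AtPrime m) (Localization.AtPrime n) := RingHom.Flat.localRingHom hφ n m hn.symm
  haveI : IsLocalHom (algebraMap (Localization.AtPrime m) (Localization.AtPrime n)) :=
    inferInstanceAs (IsLocalHom ψ)
  haveI := Module.FaithfullyFlat.of_flat_of_isLocalHom (A := Localization.AtPrime m) (B := Localization.AtPrime n)
  have hc : ψ.comp (algebraMap R (Localization.AtPrime m)) =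
      (algebraMap B (Localization.AtPrime n)).comp φ :=
    RingHom.ext fun r => Localization.localRingHom_to_map m n φ hn.symm r
  have h1 : algebraMap R (Localization.AtPrime m) a ∈
      Ideal.map (algebraMap R (Localization.AtPrime m)) I := by
    rw [← Ideal.comap_map_eq_self_of_faithfullyFlat (B := Localization.AtPrime n)
      (Ideal.map (algebraMap R (Localization.AtPrime m)) I), Ideal.mem_comap,
      RingHom.algebraMap_toAlgebra, Ideal.map_map, hc, ← Ideal.map_map]
    have := Ideal.mem_map_of_mem (algebraMap B (Localization.AtPrime n)) ha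
    rwa [show ψ (algebraMap R (Localization.AtPrime m) a) =
      algebraMap B (Localization.AtPrime n) (φ a) from RingHom.congr_fun hc a]
  exact (IsLocalization.algebraMap_mem_map_algebraMap_iff m.primeCompl _ I a).mp h1

theorem le_of_comap_le {X Y : Scheme.{u}} (f : X ⟶ Y) [Flat f] [Surjective f]
    (J J' : Y.IdealSheafData) (h : J.comap f ≤ J'.comap f) : J ≤ J' := by
  intro U a ha
  by_contra hne
  let K : Ideal Γ(Y, U.1) := (J'.ideal U).colon {a}
  have hK : K ≠ ⊤ := fun h1 => hne (by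
    have h2 : (1 : Γ(Y, U.1)) ∈ K := h1 ▸ trivial
    simpa [K, Submodule.mem_colon_singleton] using h2)
  obtain ⟨m, hm, hKm⟩ := K.exists_le_maximal hK
  haveI := hm.isPrime
  let p : Spec Γ(Y, U.1) := ⟨m, hm.isPrime⟩
  obtain ⟨x, hx⟩ := f.surjective (U.2.fromSpec p)
  have hxU : f x ∈ U.1 := hx ▸ U.2.range_fromSpec.le ⟨p, rfl⟩
  obtain ⟨V, hV, hxV, hVU⟩ := exists_isAffineOpen_mem_and_subset (x := x) (U := f ⁻¹ᵁ U.1) hxU
  have hflat : (f.appLE U.1 V hVU).hom.Flat :=
    HasRingHomProperty.appLE (P := @Flat) f inferInstance U ⟨V, hV⟩ hVU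
  have hp : U.2.primeIdealOf ⟨f x, hxU⟩ = p :=
    U.2.fromSpec.isOpenEmbedding.injective ((U.2.fromSpec_primeIdealOf _).trans hx)
  have hcomap : (hV.primeIdealOf ⟨x, hxV⟩).asIdeal.comap (f.appLE U.1 V hVU).hom = m :=
    congrArg PrimeSpectrum.asIdeal ((IsAffineOpen.comap_primeIdealOf_appLE U.1 U.2 V hV hVU hxV).trans hp)
  have hmem : f.appLE U.1 V hVU a ∈ (J'.ideal U).map (f.appLE U.1 V hVU).hom := by
    rw [← EffCartier.comap_ideal J' f U ⟨V, hV⟩ hVU]
    refine h ⟨V, hV⟩ ?_
    rw [EffCartier.comap_ideal J f U ⟨V, hV⟩ hVU]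
    exact Ideal.mem_map_of_mem _ ha
  haveI : (hV.primeIdealOf ⟨x, hxV⟩).asIdeal.IsPrime := (hV.primeIdealOf ⟨x, hxV⟩).isPrime
  obtain ⟨s, hs, hsa⟩ := exists_mul_mem hflat m _ hcomap (J'.ideal U) a hmem
  exact hs (hKm (by simpa [K, Submodule.mem_colon_singleton] using hsa))

end Groth.Agent.QF
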